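import Cfsg.Agent.H185.S8.Solv
import Cfsg.Agent.H991.LD.Fi23Small
import Cfsg.Agent.H343.LD.RowFi23
import Cfsg.Agent.H58.S8.Iso

/-!
# S4908, row `Fi₂₃`: SOLV (helper658)

`m = 782`; the degree `504627200 = 2 ^ 18 * 5 ^ 2 * 7 * 11` kills every Frobenius quotient; `SC1` from the list of the degrees
up to 8671 and from the exclusion of 17952.
-/

set_option autoImplicit false
set_option maxRecDepth 100000

namespace Cfsg.Agent.H658.S8.Fi

open Cfsg Cfsg.Agent.H704.S8 Cfsg.Agent.H511.Ore Cfsg.Agent.H935.Fi23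
open Cfsg.Spor (Fi23)

universe u v

theorem one_of {d : ℕ} {χ : IrrCharacter Fi23} (hd : charDegree (χ : Fi23 → ℂ) = d) (h : (χ : Fi23 → ℂ) = 1) : d = 1 := by
  have h2 := Blocks.Knorr.charDegree_eq χ.2
  rw [h, Pi.one_apply, ← h, hd] at h2
  exact_mod_cast h2.symm

/-- the degrees up to 8671 -/
theorem small {d : ℕ} (hd : d ∈ charDegrees Fi23) (h : d ≤ 8671) : d = 1 ∨ d = 782 ∨ d = 3588 ∨ d = 5083 := by
  obtain ⟨χ, hχ⟩ := hd
  by_cases h1 : (χ : Fi23 → ℂ) = 1
  · exact Or.inl (one_of hχ h1)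
  · exact Or.inr (hχ ▸ H991.LD.Fi23Small.degs χ h1 (hχ ▸ h))

theorem sq {d : ℕ} (hd : d ∈ charDegrees Fi23) : d ^ 2 ≤ 4089470473293004800 := by
  have := Cfsg.Agent.KFacts.FiTTh.BasInv.finite
  have h := H424.DegTools.sq_le hd ⊥ (by intro x hx; simp_all)
  rw [Subgroup.index_bot, Cfsg.Agent.LThreeFi23.card_G] at h
  exact h

/-- the residue modulo 23 -/
theorem res23 (χ : IrrCharacter Fi23) : (Nat.beq (charDegree (χ : Fi23 → ℂ) % 23) 6) = false := by
  have := Cfsg.Agent.KFacts.FiTTh.BasInv.finite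
  have := Cfsg.Agent.H856.F23.simp23
  have h := res_of_has Cfsg.Agent.H856.F23.not_comm23 Cfsg.Agent.LThreeFi23.card_G Cfsg.Agent.H856.F23.cd23_has
    (by decide +kernel) χ
  rw [Bool.eq_false_iff]
  intro h6
  have h7 : charDegree (χ : Fi23 → ℂ) % 23 = 6 := Nat.eq_of_beq_eq_true h6
  revert h
  show ¬ ((Cfsg.Agent.H856.F23.cd23.wl.any fun rw => Nat.beq (charDegree (χ : Fi23 → ℂ) % 23) rw.1) = true)
  rw [h7]
  decide

/-- the numerical conditions on a degree -/
def bad (d : ℕ) : Bool :=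
  (Nat.beq (4089470473293004800 % d) 0 && !(Nat.beq (d % 23) 6)) &&
  (rs d && !(Nat.beq d 17952 || (Nat.ble d 8671 && !([1, 782, 3588, 5083].elem d))))

theorem ok {d : ℕ} (hd : d ∈ charDegrees Fi23) : bad d = true := by
  have := Cfsg.Agent.KFacts.FiTTh.BasInv.finite
  obtain ⟨χ, hχ⟩ := hd
  have h1 : rs d = true := hχ ▸ rs_of χ
  have h0 : Nat.beq (d % 23) 6 = false := hχ ▸ res23 χ
  have h00 : Nat.beq (4089470473293004800 % d) 0 = true := by
    have h : d ∣ 4089470473293004800 := by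
      rw [← hχ, ← Cfsg.Agent.LThreeFi23.card_G]
      exact Blocks.Knorr.charDegree_dvd χ.2
    rw [Nat.mod_eq_zero_of_dvd h]
    rfl
  have h2 : d ≠ 17952 := fun h => noDeg' χ (by rw [hχ, h]; decide)
  have h3 : Nat.ble d 8671 = true → [1, 782, 3588, 5083].elem d = true := by
    intro h
    rcases small ⟨χ, hχ⟩ (Nat.le_of_ble_eq_true h) with rfl | rfl | rfl | rfl <;> rfl
  unfold bad
  rw [h1, h0, h00, Bool.not_false, Bool.true_and, Bool.true_and, Bool.true_and, Bool.not_eq_true', Bool.or_eq_false_iff]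
  refine ⟨?_, ?_⟩
  · rw [Bool.eq_false_iff]
    exact fun h => h2 (Nat.eq_of_beq_eq_true h)
  · rw [Bool.eq_false_iff, Ne, Bool.and_eq_true]
    rintro ⟨h4, h5⟩
    rw [h3 h4] at h5
    exact absurd h5 (by decide)

/-- no orbit length -/
def orb (s : ℕ) (T : List ℕ) (M : ℕ) : Bool :=
  (List.range (s * s)).all fun o => Nat.ble o 1 || (Nat.beq (o % s) 0 || (!(Nat.beq (M % o) 0) ||
    T.all fun t => !(bad (o * t))))

theorem of_orb {s M : ℕ} {T : List ℕ} (h : orb s T M = true) {o t : ℕ} (h1 : 1 < o) (h2 : o < s * s) (h3 : ¬ s ∣ o)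
    (h4 : o ∣ M) (ht : t ∈ T) : o * t ∉ charDegrees Fi23 := by
  intro hd
  have h5 := List.all_eq_true.1 h o (List.mem_range.2 h2)
  simp only [Bool.or_eq_true] at h5
  rcases h5 with h5 | h5 | h5 | h5
  · have := Nat.le_of_ble_eq_true h5
    omega
  · exact h3 (Nat.dvd_of_mod_eq_zero (Nat.eq_of_beq_eq_true h5))
  · rw [Nat.mod_eq_zero_of_dvd h4] at h5
    exact absurd h5 (by decide)
  · have h6 := List.all_eq_true.1 h5 t ht
    rw [ok hd] at h6
    exact absurd h6 (by decide)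

theorem mem_small {m t : ℕ} {T : List ℕ} (h : ((List.range (m + 1)).filter fun t => Nat.beq (m % t) 0) = T) (hm : 0 < m)
    (ht : t ∣ m) : t ∈ T := by
  rw [← h, List.mem_filter, List.mem_range]
  refine ⟨by have := Nat.le_of_dvd hm ht; omega, ?_⟩
  rw [Nat.mod_eq_zero_of_dvd ht]
  rfl

theorem sc1 : SC1 (charDegrees Fi23) 782 := by
  refine SC1.of_coprime (by norm_num) ?_
  intro s c o t hs hc hsc h1 h2 h3 h4 ht
  have hs' : s = 2 ∨ s = 17 ∨ s = 23 := by
    have h5 : s ∣ 782 := (dvd_pow_self s (by omega)).trans hsc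
    rw [show (782 : ℕ) = 2 * (17 * 23) by norm_num, hs.dvd_mul, hs.dvd_mul] at h5
    rcases h5 with h5 | h5 | h5
    · exact Or.inl ((Nat.prime_dvd_prime_iff_eq hs (by norm_num)).1 h5)
    · exact Or.inr (Or.inl ((Nat.prime_dvd_prime_iff_eq hs (by norm_num)).1 h5))
    · exact Or.inr (Or.inr ((Nat.prime_dvd_prime_iff_eq hs (by norm_num)).1 h5))
  have hc1 : c = 1 := by
    by_contra hne
    have h5 : s ^ 2 ∣ 782 := (pow_dvd_pow s (by omega)).trans hsc
    rcases hs' with rfl | rfl | rfl <;> revert h5 <;> norm_num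
  subst hc1
  rcases hs' with rfl | rfl | rfl
  · have h5 : t ∈ [1, 17, 23, 391] := mem_small (m := 391) (by decide +kernel) (by norm_num) (by simpa using ht)
    refine of_orb (s := 2) (M := 6) (by decide +kernel) h1 (by simpa using h2) h3 ?_ h5
    simpa [gl, Finset.prod_range_succ] using h4
  · have h5 : t ∈ [1, 2, 23, 46] := mem_small (m := 46) (by decide +kernel) (by norm_num) (by simpa using ht)
    refine of_orb (s := 17) (M := 78336) (by decide +kernel) h1 (by simpa using h2) h3 ?_ h5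
    simpa [gl, Finset.prod_range_succ] using h4
  · have h5 : t ∈ [1, 2, 17, 34] := mem_small (m := 34) (by decide +kernel) (by norm_num) (by simpa using ht)
    refine of_orb (s := 23) (M := 267168) (by decide +kernel) h1 (by simpa using h2) h3 ?_ h5
    simpa [gl, Finset.prod_range_succ] using h4

theorem odd_pow {q a : ℕ} (hq : q.Prime) (ha : 0 < a) (h : q ^ a ≡ 1 [MOD 782]) (hd : q ^ a ∣ 504627200 ^ 2) : False := by
  have hq2 : q ≠ 2 := by
    rintro rfl
    have h1 : 2 ^ a ≡ 1 [MOD 2] := h.of_dvd (by norm_num)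
    have h2 : 2 ^ a % 2 = 0 := Nat.mod_eq_zero_of_dvd (dvd_pow_self 2 ha.ne')
    rw [Nat.ModEq, h2] at h1
    omega
  have hcop2 : (q ^ a).Coprime (2 ^ 36) :=
    Nat.Coprime.pow _ _ ((Nat.coprime_primes hq Nat.prime_two).2 hq2)
  have h3 : q ^ a ∣ 3705625 := by
    rw [show (504627200 : ℕ) ^ 2 = 2 ^ 36 * 3705625 by norm_num] at hd
    exact hcop2.dvd_of_dvd_mul_left hd
  have h4 : q ∣ 3705625 := (dvd_pow_self q ha.ne').trans h3
  have h5 : q = 5 ∨ q = 7 ∨ q = 11 := by
    rw [show (3705625 : ℕ) = 5 ^ 4 * (7 ^ 2 * 11 ^ 2) by norm_num, hq.dvd_mul, hq.dvd_mul] at h4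
    rcases h4 with h4 | h4 | h4
    · exact Or.inl ((Nat.prime_dvd_prime_iff_eq hq (by norm_num)).1 (hq.dvd_of_dvd_pow h4))
    · exact Or.inr (Or.inl ((Nat.prime_dvd_prime_iff_eq hq (by norm_num)).1 (hq.dvd_of_dvd_pow h4)))
    · exact Or.inr (Or.inr ((Nat.prime_dvd_prime_iff_eq hq (by norm_num)).1 (hq.dvd_of_dvd_pow h4)))
  have h6 : a < 5 := by
    by_contra hlt
    have h7 : q ^ 5 ∣ 3705625 := (pow_dvd_pow q (by omega)).trans h3
    rcases h5 with rfl | rfl | rfl <;> revert h7 <;> norm_num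
  rcases h5 with rfl | rfl | rfl <;> interval_cases a <;> revert h h3 <;> decide +kernel

theorem kill782 : Kill (charDegrees Fi23) 782 := by
  refine ⟨?_, ?_⟩
  · intro p k hp hk
    exfalso
    have h1 : ∀ r : ℕ, r.Prime → r ∣ 782 → r = p := by
      intro r hr hd
      rw [hk] at hd
      exact (Nat.prime_dvd_prime_iff_eq hr hp).1 (hr.dvd_of_dvd_pow hd)
    have h2 := h1 2 (by norm_num) (by norm_num)
    have h3 := h1 17 (by norm_num) (by norm_num)
    omega
  · intro q a hq ha hqa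
    refine ⟨504627200, H343.LD.exists_Q, ?_⟩
    intro e he hde
    refine ⟨?_, ?_⟩
    · intro hmem
      have h1 := sq hmem
      have h2 : 504627200 / e ≤ 782 := Nat.le_of_dvd (by norm_num) hde
      have h3 : 504627200 / e * e = 504627200 := Nat.div_mul_cancel he
      -- `782 * e ≥ 504627200` is not enough: the quotient divides `gcd = 2`
      have h4 : 504627200 / e ∣ 2 := by
        have h5 : 504627200 / e ∣ 504627200 := Nat.div_dvd_of_dvd he
        have h6 := Nat.dvd_gcd h5 hde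
        rwa [show Nat.gcd 504627200 782 = 2 by norm_num] at h6
      have h7 : 504627200 / e ≤ 2 := Nat.le_of_dvd (by norm_num) h4
      have h8 : 504627200 ≤ 2 * e := by
        calc 504627200 = 504627200 / e * e := h3.symm
          _ ≤ 2 * e := Nat.mul_le_mul_right e h7
      have h9 : (782 * 252313600) ^ 2 ≤ (782 * e) ^ 2 := Nat.pow_le_pow_left (by omega) 2
      omega
    · intro h
      exact odd_pow hq ha hqa (h.trans (pow_dvd_pow_of_dvd he 2))

theorem exists_782 : ∃ χ : IrrCharacter Fi23, charDegree (χ : Fi23 → ℂ) = 782 := by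
  have : Finite Fi23 := Cfsg.Agent.KFacts.FiTTh.BasInv.finite
  obtain ⟨R, hR⟩ := Cfsg.Agent.H870.IMFi23.exists_r3
  obtain ⟨d, hd, χ, hχ⟩ := Cfsg.Agent.H300.PSq.RThree.exists_deg (G := Fi23) hR [782] (by decide +kernel)
  rw [List.mem_singleton] at hd
  exact ⟨χ, hχ.trans hd⟩

/-- the numerical conditions for the model -/
theorem num : NumMin (charDegrees Fi23) := by
  refine ⟨782, exists_782, by norm_num, ?_, kill782, sc1⟩
  intro d hd
  by_cases h : d ≤ 8671
  · have := small hd h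
    omega
  · omega

/-- **SOLV for `Fi₂₃`.** -/
theorem solv {X : Type v} [Group X] [Finite X] (hX : Cfsg.IsFi23 X) {D : Set ℕ} (hD : Deg 1 X D) : Solv.{u} D := by
  obtain ⟨e⟩ := H58.S8.iso_fi23 hX
  have h1 : D = charDegrees Fi23 := by
    rcases hD with rfl | ⟨h, -⟩
    · exact H424.DegTools.charDegrees_congr e
    · omega
  intro G _ _ hs hG
  exact H185.S8.solv_of_numMin num hs (hG.trans h1)

end Cfsg.Agent.H658.S8.Fi
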