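import Cfsg.Agent.H196.S8.Core
import Cfsg.Agent.H174.Ore.DegTh
import Cfsg.Agent.H672.SporIM.RankRows
import Cfsg.Agent.H678.DG.Tits
import Cfsg.Agent.H707.RowTits
import Cfsg.Agent.NotCT.Orders

/-!
# S4908: the row SOC1 of `Th` (helper658, after the row `Fi₂₃` of helper196)

The residues of the degrees modulo 31, 19 and 13 exclude all prime powers, the degrees `m - 1` of the alternating groups and
a degree of each sporadic group.
-/

set_option autoImplicit false
set_option maxRecDepth 100000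

namespace Cfsg.Agent.H658.S8.Th

open Cfsg Subgroup
open Cfsg.Agent.H691.AN (AlmostSimple)
open Cfsg.Agent.H653.Sieve Cfsg.Agent.H651.Two Cfsg.Agent.H511.Ore Cfsg.Agent.H196.S8

universe u v

/-- the admissible residues -/
def ok (d : ℕ) : Bool :=
  [0, 1, 15, 16, 30].contains (d % 31) && ([0, 1, 18].contains (d % 19) && [0, 1, 12, 2, 11].contains (d % 13))

theorem of_any {l : List (ℕ × ℤ)} {m : ℕ} (h : (l.any fun rw => Nat.beq m rw.1) = true) : m ∈ l.map Prod.fst := by
  obtain ⟨x, hx, h1⟩ := List.any_eq_true.1 h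
  rw [Nat.eq_of_beq_eq_true h1]
  exact List.mem_map_of_mem hx

theorem deg_th {d : ℕ} (hd : d ∈ charDegrees Spor.Th) : d ∣ 90745943887872000 ∧ ok d = true := by
  have := Cfsg.Agent.H174.Ore.Th.finite
  have := Cfsg.Agent.H174.Ore.Th.simple
  obtain ⟨χ, rfl⟩ := hd
  refine ⟨by rw [← Cfsg.Agent.H174.Ore.Th.card]; exact charDegree_dvd χ, ?_⟩
  have h1 := of_any (res_of_has Cfsg.Agent.H174.Ore.Th.nonab Cfsg.Agent.H174.Ore.Th.card Cfsg.Agent.H174.Ore.Th.has31
    (by decide +kernel) χ)
  have h2 := of_any (res_of_has Cfsg.Agent.H174.Ore.Th.nonab Cfsg.Agent.H174.Ore.Th.card Cfsg.Agent.H174.Ore.Th.has19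
    (by decide +kernel) χ)
  have h3 := of_any (res_of_has Cfsg.Agent.H174.Ore.Th.nonab Cfsg.Agent.H174.Ore.Th.card Cfsg.Agent.H174.Ore.Th.has13
    (by decide +kernel) χ)
  rw [ok, Bool.and_eq_true, Bool.and_eq_true]
  exact ⟨List.contains_iff_mem.2 h1, List.contains_iff_mem.2 h2, List.contains_iff_mem.2 h3⟩

theorem deg_X {X : Type v} [Group X] (h : Spor.IsoTh X) {d : ℕ} (hd : d ∈ charDegrees X) :
    d ∣ 90745943887872000 ∧ ok d = true := by
  obtain ⟨e⟩ := h
  exact deg_th (mem_of_equiv e.symm hd)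

theorem pp_chk : ∀ r ∈ [31, 19, 13, 7, 5, 3, 2], ∀ v ∈ List.range 57, 1 ≤ v →
    ¬ (r ^ v ∣ 90745943887872000 ∧ ok (r ^ v) = true) := by
  decide +kernel

theorem no_pp {r v : ℕ} (hr : r.Prime) (hv : 0 < v) (h1 : r ^ v ∣ 90745943887872000) (h2 : ok (r ^ v) = true) :
    False := by
  have h3 : r ∈ Cfsg.Agent.H174.Ore.Th.fac.map Prod.fst := prime_mem hr Cfsg.Agent.H174.Ore.Th.fac
    (fun x hx => by
      simp only [Cfsg.Agent.H174.Ore.Th.fac, List.mem_cons, List.not_mem_nil, or_false] at hx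
      rcases hx with rfl | rfl | rfl | rfl | rfl | rfl | rfl <;> norm_num)
    (by rw [Cfsg.Agent.H174.Ore.Th.chk3]; exact (dvd_pow_self r hv.ne').trans h1)
  have h4 : v < 57 := by
    by_contra hcon
    have h5 : 2 ^ 57 ≤ r ^ v := (Nat.pow_le_pow_right (by norm_num) (by omega)).trans (Nat.pow_le_pow_left hr.two_le v)
    have h6 := Nat.le_of_dvd (by norm_num) h1
    omega
  exact pp_chk r h3 v (List.mem_range.2 h4) hv ⟨h1, h2⟩

theorem low_chk : ∀ x ∈ [6, 7, 8, 9, 10, 36, 72, 78, 156], x ∣ 90745943887872000 → ok x = true → False := by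
  decide +kernel

section

variable {A : Type u} [Group A] [Finite A] {S : Subgroup A} (hA : AlmostSimple A S)
  (hD : ∀ d ∈ charDegrees A, d ∣ 90745943887872000 ∧ ok d = true)

include hA hD

theorem pr {p : ℕ} (hp : p.Prime) (hd : p ∣ Nat.card S) : p ∣ 90745943887872000 := by
  obtain ⟨d, h1, h2⟩ := prime_deg hA hp hd
  exact h2.trans (hD d h1).1

theorem two (hout : Nat.card (Out S) ≤ 2) {a : ℕ} (ha : a ∈ charDegrees S)
    (h1 : a ∣ 90745943887872000 → ok a = true → False)
    (h2 : 2 * a ∣ 90745943887872000 → ok (2 * a) = true → False) : False := by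
  rcases two_deg hA hout ha with h | h
  · exact h1 (hD _ h).1 (hD _ h).2
  · exact h2 (hD _ h).1 (hD _ h).2

theorem lie {r : ℕ} (hr : r.Prime) (h : IsLieTypeChar r S) : False := by
  obtain ⟨v, hv, h1⟩ := lie_pp hA hr h
  exact no_pp hr hv (hD _ h1).1 (hD _ h1).2

theorem alt {m : ℕ} (hm : 5 ≤ m) (e : S ≃* alternatingGroup (Fin m)) : False := by
  rcases Nat.lt_or_ge m 7 with h7 | h7
  · have : m = 5 ∨ m = 6 := by omega
    rcases this with rfl | rfl
    · exact lie hA hD (by norm_num) (lie_five e)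
    · exact lie hA hD (r := 3) (by norm_num) (H679.isLie_six ⟨e⟩)
  · have h18 : m ≤ 10 := by
      by_contra hcon
      have h1 := pr hA hD (p := 11) (by norm_num)
        (by rw [Nat.card_congr e.toEquiv]; exact prime_dvd_alt (by norm_num) (by norm_num) hm (by omega))
      norm_num at h1
    have h1 := hD _ (alt_deg hA h7 e)
    refine low_chk (m - 1) ?_ h1.1 h1.2
    interval_cases m <;> decide

theorem tits (h : Lie.IsoTits S) : False := by
  have hout := H489.card_out_tits h
  obtain ⟨e⟩ := h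
  obtain ⟨f⟩ := H707.RowTits.equiv
  exact two hA hD hout (mem_of_equiv (e.trans f) H678.DG.Tits.deg_78) (low_chk 78 (by decide)) (low_chk 156 (by decide))

theorem spor (h : IsSporadicGroup S) : Spor.IsoTh S := by
  have hout := H489.card_out_sporadic h
  have kp : ∀ {p N : ℕ}, p.Prime → Nat.card S = N → p ∣ N → ¬ p ∣ 90745943887872000 → Spor.IsoTh S :=
    fun hp h1 h2 h3 => (h3 (pr hA hD hp (by rw [h1]; exact h2))).elim
  rcases h with h | h | h | h | h | h | h | h | h | h | h | h | h | h | h | h | h | h | h | h | h | h | h | h | h | h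
  · exact kp (p := 11) (by norm_num) (NotCT.Orders.m11 h) (by norm_num) (by norm_num)
  · exact kp (p := 11) (by norm_num) (NotCT.Orders.m12 h) (by norm_num) (by norm_num)
  · exact kp (p := 11) (by norm_num) (NotCT.Orders.m22 h) (by norm_num) (by norm_num)
  · exact kp (p := 11) (by norm_num) (NotCT.Orders.m23 h) (by norm_num) (by norm_num)
  · exact kp (p := 11) (by norm_num) (NotCT.Orders.m24 h) (by norm_num) (by norm_num)
  · exact kp (p := 11) (by norm_num) (NotCT.Orders.j1 h) (by norm_num) (by norm_num)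
  · exact (two hA hD hout (H672.SporIM.j2 h).2 (low_chk 36 (by decide)) (low_chk 72 (by decide))).elim
  · exact kp (p := 17) (by norm_num) (NotCT.Orders.j3 h) (by norm_num) (by norm_num)
  · exact kp (p := 43) (by norm_num) (NotCT.Orders.j4 h) (by norm_num) (by norm_num)
  · exact kp (p := 11) (by norm_num) (NotCT.Orders.co1 h) (by norm_num) (by norm_num)
  · exact kp (p := 11) (by norm_num) (NotCT.Orders.co2 h) (by norm_num) (by norm_num)
  · exact kp (p := 11) (by norm_num) (NotCT.Orders.co3 h) (by norm_num) (by norm_num)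
  · exact kp (p := 11) (by norm_num) (NotCT.Orders.mcl h) (by norm_num) (by norm_num)
  · exact kp (p := 11) (by norm_num) (NotCT.Orders.hs h) (by norm_num) (by norm_num)
  · exact kp (p := 11) (by norm_num) (NotCT.Orders.suz h) (by norm_num) (by norm_num)
  · exact kp (p := 17) (by norm_num) (NotCT.Orders.he h) (by norm_num) (by norm_num)
  · exact kp (p := 29) (by norm_num) (NotCT.Orders.ru h) (by norm_num) (by norm_num)
  · exact kp (p := 11) (by norm_num) (NotCT.Orders.on h) (by norm_num) (by norm_num)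
  · exact kp (p := 67) (by norm_num) (NotCT.Orders.ly h) (by norm_num) (by norm_num)
  · exact kp (p := 11) (by norm_num) (NotCT.Orders.fi22 h) (by norm_num) (by norm_num)
  · exact kp (p := 11) (by norm_num) (NotCT.Orders.fi23 h) (by norm_num) (by norm_num)
  · exact kp (p := 29) (by norm_num) (NotCT.Orders.fi24 h) (by norm_num) (by norm_num)
  · exact kp (p := 11) (by norm_num) (NotCT.Orders.hn h) (by norm_num) (by norm_num)
  · exact h
  · exact kp (p := 47) (by norm_num) (NotCT.Orders.b h) (by norm_num) (by norm_num)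
  · exact kp (p := 71) (by norm_num) (NotCT.Orders.m h) (by norm_num) (by norm_num)

theorem main : Spor.IsoTh S := by
  have := hA.simple
  rcases exists_split S hA.nonab with ⟨l, hl, ⟨e⟩⟩ | ⟨r, hr, h⟩ | h | h
  · exact (alt hA hD hl e).elim
  · exact (lie hA hD hr h).elim
  · exact (tits hA hD h).elim
  · exact spor hA hD h

end

/-- **SOC1 for `Th`**, model version -/
theorem soc1_iso {X : Type v} [Group X] (hX : Spor.IsoTh X) {D : Set ℕ} (hD : H704.S8.Deg 1 X D) :
    H704.S8.Soc1.{u} D X := by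
  intro A _ _ S hA h
  obtain rfl : D = charDegrees X := hD.resolve_right fun h => absurd h.1 (by norm_num)
  obtain ⟨e⟩ := main hA fun d hd => deg_X hX (h hd)
  obtain ⟨f⟩ := hX
  exact ⟨e.trans f.symm⟩

/-- **SOC1 for `Th`** -/
theorem soc1 {X : Type v} [Group X] [Finite X] (hX : Cfsg.IsTh X) {D : Set ℕ} (hD : H704.S8.Deg 1 X D) :
    H704.S8.Soc1.{u} D X := soc1_iso (isoTh hX) hD

end Cfsg.Agent.H658.S8.Th
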