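import Cfsg.Agent.S0000
import Cfsg.Agent.OrdDiv.Table

/-!
# A simple group with the order of a sporadic group is the sporadic group (helper658; from S0000 and the order engine)
-/

set_option autoImplicit false
set_option maxRecDepth 100000

namespace Cfsg.Agent.H658.S8

open Cfsg Cfsg.Agent.OrdDiv

universe u

/-- a simple group of composite order is not abelian -/
theorem nonab {X : Type u} [Group X] [Finite X] [IsSimpleGroup X] {N : ℕ} (hN : Nat.card X = N) (hp : ¬ N.Prime) :
    ¬ ∀ a b : X, a * b = b * a := by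
  intro h
  let _ : CommGroup X := { (inferInstance : Group X) with mul_comm := h }
  exact hp (hN ▸ IsSimpleGroup.prime_card)

theorem real_of {X : Type u} [Group X] [Finite X] [IsSimpleGroup X] {N : ℕ} (hN : Nat.card X = N) (hp : ¬ N.Prime)
    {l : List (ℕ × ℕ)} (hv : valid l N = true) {g : Grp} (hg : (cands l N).filter (fun g => ordN g == N) = [g]) :
    Real g X := by
  obtain ⟨g', h1, h2⟩ := exists_real_filter table Cfsg.Agent.S0000.result (nonab hN hp) hv (by rw [hN]) (fun n => n == N)
    (by rw [hN]; exact beq_self_eq_true N)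
  rw [hg, List.mem_singleton] at h1
  rwa [h1] at h2

theorem iso_m11 {X : Type u} [Group X] [Finite X] (hX : IsM11 X) : Spor.IsoM11 X := by
  have := hX.1
  exact real_of hX.2 (by norm_num) (l := [(2, 4), (3, 2), (5, 1), (11, 1)]) (g := .m11) (by decide +kernel) (by decide +kernel)

theorem iso_m12 {X : Type u} [Group X] [Finite X] (hX : IsM12 X) : Spor.IsoM12 X := by
  have := hX.1
  exact real_of hX.2 (by norm_num) (l := [(2, 6), (3, 3), (5, 1), (11, 1)]) (g := .m12) (by decide +kernel) (by decide +kernel)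

theorem iso_m22 {X : Type u} [Group X] [Finite X] (hX : IsM22 X) : Spor.IsoM22 X := by
  have := hX.1
  exact real_of hX.2 (by norm_num) (l := [(2, 7), (3, 2), (5, 1), (7, 1), (11, 1)]) (g := .m22) (by decide +kernel) (by decide +kernel)

theorem iso_m23 {X : Type u} [Group X] [Finite X] (hX : IsM23 X) : Spor.IsoM23 X := by
  have := hX.1
  exact real_of hX.2 (by norm_num) (l := [(2, 7), (3, 2), (5, 1), (7, 1), (11, 1), (23, 1)]) (g := .m23) (by decide +kernel) (by decide +kernel)

theorem iso_m24 {X : Type u} [Group X] [Finite X] (hX : IsM24 X) : Spor.IsoM24 X := by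
  have := hX.1
  exact real_of hX.2 (by norm_num) (l := [(2, 10), (3, 3), (5, 1), (7, 1), (11, 1), (23, 1)]) (g := .m24) (by decide +kernel) (by decide +kernel)

theorem iso_j1 {X : Type u} [Group X] [Finite X] (hX : IsJ1 X) : Spor.IsoJ1 X := by
  have := hX.1
  exact real_of hX.2 (by norm_num) (l := [(2, 3), (3, 1), (5, 1), (7, 1), (11, 1), (19, 1)]) (g := .j1) (by decide +kernel) (by decide +kernel)

theorem iso_j2 {X : Type u} [Group X] [Finite X] (hX : IsJ2 X) : Spor.IsoJ2 X := by
  have := hX.1
  exact real_of hX.2 (by norm_num) (l := [(2, 7), (3, 3), (5, 2), (7, 1)]) (g := .j2) (by decide +kernel) (by decide +kernel)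

theorem iso_j3 {X : Type u} [Group X] [Finite X] (hX : IsJ3 X) : Spor.IsoJ3 X := by
  have := hX.1
  exact real_of hX.2 (by norm_num) (l := [(2, 7), (3, 5), (5, 1), (17, 1), (19, 1)]) (g := .j3) (by decide +kernel) (by decide +kernel)

theorem iso_j4 {X : Type u} [Group X] [Finite X] (hX : IsJ4 X) : Spor.IsoJ4 X := by
  have := hX.1
  exact real_of hX.2 (by norm_num) (l := [(2, 21), (3, 3), (5, 1), (7, 1), (11, 3), (23, 1), (29, 1), (31, 1), (37, 1), (43, 1)]) (g := .j4) (by decide +kernel) (by decide +kernel)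

theorem iso_co1 {X : Type u} [Group X] [Finite X] (hX : IsCo1 X) : Spor.IsoCo1 X := by
  have := hX.1
  exact real_of hX.2 (by norm_num) (l := [(2, 21), (3, 9), (5, 4), (7, 2), (11, 1), (13, 1), (23, 1)]) (g := .co1) (by decide +kernel) (by decide +kernel)

theorem iso_co2 {X : Type u} [Group X] [Finite X] (hX : IsCo2 X) : Spor.IsoCo2 X := by
  have := hX.1
  exact real_of hX.2 (by norm_num) (l := [(2, 18), (3, 6), (5, 3), (7, 1), (11, 1), (23, 1)]) (g := .co2) (by decide +kernel) (by decide +kernel)

theorem iso_co3 {X : Type u} [Group X] [Finite X] (hX : IsCo3 X) : Spor.IsoCo3 X := by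
  have := hX.1
  exact real_of hX.2 (by norm_num) (l := [(2, 10), (3, 7), (5, 3), (7, 1), (11, 1), (23, 1)]) (g := .co3) (by decide +kernel) (by decide +kernel)

theorem iso_mcl {X : Type u} [Group X] [Finite X] (hX : IsMcL X) : Spor.IsoMcL X := by
  have := hX.1
  exact real_of hX.2 (by norm_num) (l := [(2, 7), (3, 6), (5, 3), (7, 1), (11, 1)]) (g := .mcl) (by decide +kernel) (by decide +kernel)

theorem iso_hs {X : Type u} [Group X] [Finite X] (hX : IsHS X) : Spor.IsoHS X := by
  have := hX.1
  exact real_of hX.2 (by norm_num) (l := [(2, 9), (3, 2), (5, 3), (7, 1), (11, 1)]) (g := .hs) (by decide +kernel) (by decide +kernel)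

theorem iso_suz {X : Type u} [Group X] [Finite X] (hX : IsSuz X) : Spor.IsoSuz X := by
  have := hX.1
  exact real_of hX.2 (by norm_num) (l := [(2, 13), (3, 7), (5, 2), (7, 1), (11, 1), (13, 1)]) (g := .suz) (by decide +kernel) (by decide +kernel)

theorem iso_he {X : Type u} [Group X] [Finite X] (hX : IsHe X) : Spor.IsoHe X := by
  have := hX.1
  exact real_of hX.2 (by norm_num) (l := [(2, 10), (3, 3), (5, 2), (7, 3), (17, 1)]) (g := .he) (by decide +kernel) (by decide +kernel)

theorem iso_ru {X : Type u} [Group X] [Finite X] (hX : IsRu X) : Spor.IsoRu X := by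
  have := hX.1
  exact real_of hX.2 (by norm_num) (l := [(2, 14), (3, 3), (5, 3), (7, 1), (13, 1), (29, 1)]) (g := .ru) (by decide +kernel) (by decide +kernel)

theorem iso_on {X : Type u} [Group X] [Finite X] (hX : IsON X) : Spor.IsoON X := by
  have := hX.1
  exact real_of hX.2 (by norm_num) (l := [(2, 9), (3, 4), (5, 1), (7, 3), (11, 1), (19, 1), (31, 1)]) (g := .on) (by decide +kernel) (by decide +kernel)

theorem iso_ly {X : Type u} [Group X] [Finite X] (hX : IsLy X) : Spor.IsoLy X := by
  have := hX.1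
  exact real_of hX.2 (by norm_num) (l := [(2, 8), (3, 7), (5, 6), (7, 1), (11, 1), (31, 1), (37, 1), (67, 1)]) (g := .ly) (by decide +kernel) (by decide +kernel)

theorem iso_fi22 {X : Type u} [Group X] [Finite X] (hX : IsFi22 X) : Spor.IsoFi22 X := by
  have := hX.1
  exact real_of hX.2 (by norm_num) (l := [(2, 17), (3, 9), (5, 2), (7, 1), (11, 1), (13, 1)]) (g := .fi22) (by decide +kernel) (by decide +kernel)

theorem iso_fi23 {X : Type u} [Group X] [Finite X] (hX : IsFi23 X) : Spor.IsoFi23 X := by
  have := hX.1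
  exact real_of hX.2 (by norm_num) (l := [(2, 18), (3, 13), (5, 2), (7, 1), (11, 1), (13, 1), (17, 1), (23, 1)]) (g := .fi23) (by decide +kernel) (by decide +kernel)

theorem iso_fi24 {X : Type u} [Group X] [Finite X] (hX : IsFi24' X) : Spor.IsoFi24' X := by
  have := hX.1
  exact real_of hX.2 (by norm_num) (l := [(2, 21), (3, 16), (5, 2), (7, 3), (11, 1), (13, 1), (17, 1), (23, 1), (29, 1)]) (g := .fi24) (by decide +kernel) (by decide +kernel)

theorem iso_hn {X : Type u} [Group X] [Finite X] (hX : IsHN X) : Spor.IsoHN X := by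
  have := hX.1
  exact real_of hX.2 (by norm_num) (l := [(2, 14), (3, 6), (5, 6), (7, 1), (11, 1), (19, 1)]) (g := .hn) (by decide +kernel) (by decide +kernel)

theorem iso_th {X : Type u} [Group X] [Finite X] (hX : IsTh X) : Spor.IsoTh X := by
  have := hX.1
  exact real_of hX.2 (by norm_num) (l := [(2, 15), (3, 10), (5, 3), (7, 2), (13, 1), (19, 1), (31, 1)]) (g := .th) (by decide +kernel) (by decide +kernel)

theorem iso_b {X : Type u} [Group X] [Finite X] (hX : IsB X) : Spor.IsoB X := by
  have := hX.1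
  exact real_of hX.2 (by norm_num) (l := [(2, 41), (3, 13), (5, 6), (7, 2), (11, 1), (13, 1), (17, 1), (19, 1), (23, 1), (31, 1), (47, 1)]) (g := .b) (by decide +kernel) (by decide +kernel)

theorem iso_m {X : Type u} [Group X] [Finite X] (hX : IsM X) : Spor.IsoM X := by
  have := hX.1
  exact real_of hX.2 (by norm_num) (l := [(2, 46), (3, 20), (5, 9), (7, 6), (11, 2), (13, 3), (17, 1), (19, 1), (23, 1), (29, 1), (31, 1), (41, 1), (47, 1), (59, 1), (71, 1)]) (g := .m) (by decide +kernel) (by decide +kernel)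

end Cfsg.Agent.H658.S8

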